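import Cfsg.Agent.Lib.Helper28.SuzOrd.C416.ChkP0
import Cfsg.Agent.Lib.Helper28.SuzOrd.C416.ChkF0
import Cfsg.Agent.Lib.Helper28.SuzOrd.C416.ChkC0

set_option autoImplicit false
set_option linter.unusedVariables false

namespace Cfsg.Agent.Lib.Helper28.SuzOrd.C416

open Cfsg.Agent.Lib.Helper28.SuzSub.P6 (Gen)
open Cfsg.Agent.Lib.Helper28.TC

noncomputable section

def NNpad : ℕ := 896
def wHot : ℕ := 22
theorem permP_allk : ∀ k, k < 13 → allRange (guard nn permP) 5 (k * 2 ^ 5) = true := by
  intro k hk
  by_cases h0 : k < 13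
  · exact permP_f0 k (by omega) h0
  omega
theorem permP_all : ∀ i, i < nn → permP i = true :=
  all_of_blocks nn permP 5 13 (by decide) permP_allk

theorem factP_allk : ∀ k, k < 14 → allRange factP 6 (k * 2 ^ 6) = true := by
  intro k hk
  by_cases h0 : k < 14
  · exact factP_f0 k (by omega) h0
  omega
theorem factP_all : ∀ i, i < NNpad → factP i = true :=
  allBlocks_spec factP 6 14 factP_allk

theorem closedP_allk : ∀ k, k < 2 → allRange (guard nn closedP) 8 (k * 2 ^ 8) = true := by
  intro k hk
  by_cases h0 : k < 2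
  · exact closedP_f0 k (by omega) h0
  omega
theorem closedP_all : ∀ i, i < nn → closedP i = true :=
  all_of_blocks nn closedP 8 2 (by decide) closedP_allk

theorem hotA_lt : hotA < 2 ^ (22 * 896) := by decide +kernel
theorem hotE0_lt : hotE0 < 2 ^ (22 * 896) := by decide +kernel
theorem hotE1_lt : hotE1 < 2 ^ (22 * 896) := by decide +kernel
theorem hotE2_lt : hotE2 < 2 ^ (22 * 896) := by decide +kernel
theorem hotE3_lt : hotE3 < 2 ^ (22 * 896) := by decide +kernel
theorem hotE4_lt : hotE4 < 2 ^ (22 * 896) := by decide +kernel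
theorem hotE5_lt : hotE5 < 2 ^ (22 * 896) := by decide +kernel
theorem subFix : allList (fun w => Nat.beq (act tf w 0) 0) subWords = true := by decide +kernel

end

end Cfsg.Agent.Lib.Helper28.SuzOrd.C416
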