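import Cfsg.Agent.Lib.Helper28.SuzOrd.C416.DataE0
import Cfsg.Agent.Lib.Helper28.SuzOrd.C416.DataE1
import Cfsg.Agent.Lib.Helper28.SuzOrd.C416.DataE2
import Cfsg.Agent.Lib.Helper28.SuzOrd.C416.DataE3
import Cfsg.Agent.Lib.Helper28.SuzOrd.C416.DataE4
import Cfsg.Agent.Lib.Helper28.SuzOrd.C416.DataE5
import Cfsg.Agent.Lib.Helper28.SuzOrd.C416.DataA

set_option autoImplicit false
set_option linter.unusedVariables false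

namespace Cfsg.Agent.Lib.Helper28.SuzOrd.C416

open Cfsg.Agent.Lib.Helper28.SuzSub.P6 (Gen)
open Cfsg.Agent.Lib.Helper28.TC

noncomputable section

/-- the generators -/
def gens : List Gen := [Gen.a, Gen.b, Gen.c, Gen.d, Gen.e, Gen.f]

theorem mem_gens (x : Gen) : x ∈ gens := by cases x <;> decide

/-- decode a generator -/
def genOf (c : ℕ) : Gen := Nat.rec (motive := fun _ => Gen) Gen.a (fun c _ => Nat.rec (motive := fun _ => Gen) Gen.b (fun c _ => Nat.rec (motive := fun _ => Gen) Gen.c (fun c _ => Nat.rec (motive := fun _ => Gen) Gen.d (fun c _ => Nat.rec (motive := fun _ => Gen) Gen.e (fun c _ => Gen.f) c) c) c) c) c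

def hotE (x : Gen) : ℕ := Gen.rec (motive := fun _ => ℕ) hotE0 hotE1 hotE2 hotE3 hotE4 hotE5 x
def coldE (x : Gen) : ℕ := Gen.rec (motive := fun _ => ℕ) coldE0 coldE1 coldE2 coldE3 coldE4 coldE5 x
def tfT (x : Gen) : ℕ := Gen.rec (motive := fun _ => ℕ) tfT0 tfT1 tfT2 tfT3 tfT4 tfT5 x

def entH (x : Gen) (u : ℕ) : ℕ := look (hotE x) 22 4194303 u
def jEc (x : Gen) (u : ℕ) : ℕ := look (coldE x) 30 1073741823 u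
def alH (k : ℕ) : ℕ := look hotA 22 4194303 k
def jAc (k : ℕ) : ℕ := look coldA 64 18446744073709551615 k
def treeE (k : ℕ) : ℕ := look treeT 23 8388607 k
/-- the final coset table -/
def tf (x : Gen) (i : ℕ) : ℕ := look (tfT x) 9 511 i
/-- the final coset number of a row -/
def fin (k : ℕ) : ℕ := Nat.shiftRight (treeE k) 14
/-- the designated row of a final coset -/
def rowOf (i : ℕ) : ℕ := look rowT 10 1023 i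

/-- the cycle words with their reverses and lengths -/
def cycs : List (List Gen × List Gen × ℕ) := [
  ([Gen.a, Gen.a], [Gen.a, Gen.a], 2),
  ([Gen.a, Gen.b, Gen.a, Gen.b, Gen.a, Gen.b, Gen.a, Gen.b, Gen.a, Gen.b], [Gen.b, Gen.a, Gen.b, Gen.a, Gen.b, Gen.a, Gen.b, Gen.a, Gen.b, Gen.a], 10),
  ([Gen.a, Gen.c, Gen.a, Gen.c], [Gen.c, Gen.a, Gen.c, Gen.a], 4),
  ([Gen.a, Gen.d, Gen.a, Gen.d], [Gen.d, Gen.a, Gen.d, Gen.a], 4),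
  ([Gen.a, Gen.e, Gen.a, Gen.e], [Gen.e, Gen.a, Gen.e, Gen.a], 4),
  ([Gen.a, Gen.f, Gen.a, Gen.f], [Gen.f, Gen.a, Gen.f, Gen.a], 4),
  ([Gen.b, Gen.a, Gen.b, Gen.a, Gen.b, Gen.a, Gen.b, Gen.a, Gen.b, Gen.a], [Gen.a, Gen.b, Gen.a, Gen.b, Gen.a, Gen.b, Gen.a, Gen.b, Gen.a, Gen.b], 10),
  ([Gen.b, Gen.b], [Gen.b, Gen.b], 2),
  ([Gen.b, Gen.c, Gen.b, Gen.c, Gen.b, Gen.c], [Gen.c, Gen.b, Gen.c, Gen.b, Gen.c, Gen.b], 6),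
  ([Gen.b, Gen.d, Gen.b, Gen.d], [Gen.d, Gen.b, Gen.d, Gen.b], 4),
  ([Gen.b, Gen.e, Gen.b, Gen.e], [Gen.e, Gen.b, Gen.e, Gen.b], 4),
  ([Gen.b, Gen.f, Gen.b, Gen.f, Gen.b, Gen.f], [Gen.f, Gen.b, Gen.f, Gen.b, Gen.f, Gen.b], 6),
  ([Gen.c, Gen.a, Gen.c, Gen.a], [Gen.a, Gen.c, Gen.a, Gen.c], 4),
  ([Gen.c, Gen.b, Gen.c, Gen.b, Gen.c, Gen.b], [Gen.b, Gen.c, Gen.b, Gen.c, Gen.b, Gen.c], 6),
  ([Gen.c, Gen.c], [Gen.c, Gen.c], 2),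
  ([Gen.c, Gen.d, Gen.c, Gen.d, Gen.c, Gen.d, Gen.c, Gen.d, Gen.c, Gen.d, Gen.c, Gen.d, Gen.c, Gen.d, Gen.c, Gen.d], [Gen.d, Gen.c, Gen.d, Gen.c, Gen.d, Gen.c, Gen.d, Gen.c, Gen.d, Gen.c, Gen.d, Gen.c, Gen.d, Gen.c, Gen.d, Gen.c], 16),
  ([Gen.c, Gen.e, Gen.c, Gen.e], [Gen.e, Gen.c, Gen.e, Gen.c], 4),
  ([Gen.c, Gen.f, Gen.c, Gen.f], [Gen.f, Gen.c, Gen.f, Gen.c], 4),
  ([Gen.d, Gen.a, Gen.d, Gen.a], [Gen.a, Gen.d, Gen.a, Gen.d], 4),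
  ([Gen.d, Gen.b, Gen.d, Gen.b], [Gen.b, Gen.d, Gen.b, Gen.d], 4),
  ([Gen.d, Gen.c, Gen.d, Gen.c, Gen.d, Gen.c, Gen.d, Gen.c, Gen.d, Gen.c, Gen.d, Gen.c, Gen.d, Gen.c, Gen.d, Gen.c], [Gen.c, Gen.d, Gen.c, Gen.d, Gen.c, Gen.d, Gen.c, Gen.d, Gen.c, Gen.d, Gen.c, Gen.d, Gen.c, Gen.d, Gen.c, Gen.d], 16),
  ([Gen.d, Gen.d], [Gen.d, Gen.d], 2),
  ([Gen.d, Gen.e, Gen.d, Gen.e, Gen.d, Gen.e], [Gen.e, Gen.d, Gen.e, Gen.d, Gen.e, Gen.d], 6),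
  ([Gen.d, Gen.f, Gen.d, Gen.f], [Gen.f, Gen.d, Gen.f, Gen.d], 4),
  ([Gen.e, Gen.a, Gen.e, Gen.a], [Gen.a, Gen.e, Gen.a, Gen.e], 4),
  ([Gen.e, Gen.b, Gen.e, Gen.b], [Gen.b, Gen.e, Gen.b, Gen.e], 4),
  ([Gen.e, Gen.c, Gen.e, Gen.c], [Gen.c, Gen.e, Gen.c, Gen.e], 4),
  ([Gen.e, Gen.d, Gen.e, Gen.d, Gen.e, Gen.d], [Gen.d, Gen.e, Gen.d, Gen.e, Gen.d, Gen.e], 6),
  ([Gen.e, Gen.e], [Gen.e, Gen.e], 2),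
  ([Gen.e, Gen.f, Gen.e, Gen.f], [Gen.f, Gen.e, Gen.f, Gen.e], 4),
  ([Gen.f, Gen.a, Gen.f, Gen.a], [Gen.a, Gen.f, Gen.a, Gen.f], 4),
  ([Gen.f, Gen.b, Gen.f, Gen.b, Gen.f, Gen.b], [Gen.b, Gen.f, Gen.b, Gen.f, Gen.b, Gen.f], 6),
  ([Gen.f, Gen.c, Gen.f, Gen.c], [Gen.c, Gen.f, Gen.c, Gen.f], 4),
  ([Gen.f, Gen.d, Gen.f, Gen.d], [Gen.d, Gen.f, Gen.d, Gen.f], 4),
  ([Gen.f, Gen.e, Gen.f, Gen.e], [Gen.e, Gen.f, Gen.e, Gen.f], 4),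
  ([Gen.f, Gen.f], [Gen.f, Gen.f], 2),
  ([Gen.a, Gen.d, Gen.c, Gen.d, Gen.c, Gen.d, Gen.c, Gen.d, Gen.c], [Gen.c, Gen.d, Gen.c, Gen.d, Gen.c, Gen.d, Gen.c, Gen.d, Gen.a], 9),
  ([Gen.a, Gen.b, Gen.c, Gen.f, Gen.a, Gen.b, Gen.c, Gen.f, Gen.a, Gen.b, Gen.c, Gen.f, Gen.a, Gen.b, Gen.c, Gen.f, Gen.a, Gen.b, Gen.c, Gen.f], [Gen.f, Gen.c, Gen.b, Gen.a, Gen.f, Gen.c, Gen.b, Gen.a, Gen.f, Gen.c, Gen.b, Gen.a, Gen.f, Gen.c, Gen.b, Gen.a, Gen.f, Gen.c, Gen.b, Gen.a], 20),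
  ([Gen.b, Gen.c, Gen.d, Gen.c, Gen.d, Gen.b, Gen.c, Gen.d, Gen.c, Gen.d, Gen.b, Gen.c, Gen.d, Gen.c, Gen.d, Gen.b, Gen.c, Gen.d, Gen.c, Gen.d, Gen.b, Gen.c, Gen.d, Gen.c, Gen.d, Gen.e, Gen.b, Gen.c, Gen.d, Gen.c, Gen.d, Gen.b, Gen.c, Gen.d, Gen.c, Gen.d, Gen.b, Gen.c, Gen.d, Gen.c, Gen.d, Gen.b, Gen.c, Gen.d, Gen.c, Gen.d, Gen.b, Gen.c, Gen.d, Gen.c, Gen.d, Gen.e, Gen.b, Gen.c, Gen.d, Gen.c, Gen.d, Gen.b, Gen.c, Gen.d, Gen.c, Gen.d, Gen.b, Gen.c, Gen.d, Gen.c, Gen.d, Gen.b, Gen.c, Gen.d, Gen.c, Gen.d, Gen.b, Gen.c, Gen.d, Gen.c, Gen.d, Gen.e], [Gen.e, Gen.d, Gen.c, Gen.d, Gen.c, Gen.b, Gen.d, Gen.c, Gen.d, Gen.c, Gen.b, Gen.d, Gen.c, Gen.d, Gen.c, Gen.b, Gen.d, Gen.c, Gen.d, Gen.c, Gen.b, Gen.d, Gen.c, Gen.d, Gen.c, Gen.b, Gen.e, Gen.d, Gen.c, Gen.d, Gen.c, Gen.b, Gen.d, Gen.c,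 Gen.d, Gen.c, Gen.b, Gen.d, Gen.c, Gen.d, Gen.c, Gen.b, Gen.d, Gen.c, Gen.d, Gen.c, Gen.b, Gen.d, Gen.c, Gen.d, Gen.c, Gen.b, Gen.e, Gen.d, Gen.c, Gen.d, Gen.c, Gen.b, Gen.d, Gen.c, Gen.d, Gen.c, Gen.b, Gen.d, Gen.c, Gen.d, Gen.c, Gen.b, Gen.d, Gen.c, Gen.d, Gen.c, Gen.b, Gen.d, Gen.c, Gen.d, Gen.c, Gen.b], 78),
  ([Gen.a], [Gen.a], 1),
  ([Gen.b], [Gen.b], 1),
  ([Gen.c], [Gen.c], 1),
  ([Gen.d], [Gen.d], 1),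
  ([Gen.e], [Gen.e], 1)]

/-- the relator words -/
def relWords : List (List Gen) := [
  [Gen.a, Gen.a],
  [Gen.a, Gen.b, Gen.a, Gen.b, Gen.a, Gen.b, Gen.a, Gen.b, Gen.a, Gen.b],
  [Gen.a, Gen.c, Gen.a, Gen.c],
  [Gen.a, Gen.d, Gen.a, Gen.d],
  [Gen.a, Gen.e, Gen.a, Gen.e],
  [Gen.a, Gen.f, Gen.a, Gen.f],
  [Gen.b, Gen.a, Gen.b, Gen.a, Gen.b, Gen.a, Gen.b, Gen.a, Gen.b, Gen.a],
  [Gen.b, Gen.b],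
  [Gen.b, Gen.c, Gen.b, Gen.c, Gen.b, Gen.c],
  [Gen.b, Gen.d, Gen.b, Gen.d],
  [Gen.b, Gen.e, Gen.b, Gen.e],
  [Gen.b, Gen.f, Gen.b, Gen.f, Gen.b, Gen.f],
  [Gen.c, Gen.a, Gen.c, Gen.a],
  [Gen.c, Gen.b, Gen.c, Gen.b, Gen.c, Gen.b],
  [Gen.c, Gen.c],
  [Gen.c, Gen.d, Gen.c, Gen.d, Gen.c, Gen.d, Gen.c, Gen.d, Gen.c, Gen.d, Gen.c, Gen.d, Gen.c, Gen.d, Gen.c, Gen.d],
  [Gen.c, Gen.e, Gen.c, Gen.e],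
  [Gen.c, Gen.f, Gen.c, Gen.f],
  [Gen.d, Gen.a, Gen.d, Gen.a],
  [Gen.d, Gen.b, Gen.d, Gen.b],
  [Gen.d, Gen.c, Gen.d, Gen.c, Gen.d, Gen.c, Gen.d, Gen.c, Gen.d, Gen.c, Gen.d, Gen.c, Gen.d, Gen.c, Gen.d, Gen.c],
  [Gen.d, Gen.d],
  [Gen.d, Gen.e, Gen.d, Gen.e, Gen.d, Gen.e],
  [Gen.d, Gen.f, Gen.d, Gen.f],
  [Gen.e, Gen.a, Gen.e, Gen.a],
  [Gen.e, Gen.b, Gen.e, Gen.b],
  [Gen.e, Gen.c, Gen.e, Gen.c],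
  [Gen.e, Gen.d, Gen.e, Gen.d, Gen.e, Gen.d],
  [Gen.e, Gen.e],
  [Gen.e, Gen.f, Gen.e, Gen.f],
  [Gen.f, Gen.a, Gen.f, Gen.a],
  [Gen.f, Gen.b, Gen.f, Gen.b, Gen.f, Gen.b],
  [Gen.f, Gen.c, Gen.f, Gen.c],
  [Gen.f, Gen.d, Gen.f, Gen.d],
  [Gen.f, Gen.e, Gen.f, Gen.e],
  [Gen.f, Gen.f],
  [Gen.a, Gen.d, Gen.c, Gen.d, Gen.c, Gen.d, Gen.c, Gen.d, Gen.c],
  [Gen.a, Gen.b, Gen.c, Gen.f, Gen.a, Gen.b, Gen.c, Gen.f, Gen.a, Gen.b, Gen.c, Gen.f, Gen.a, Gen.b, Gen.c, Gen.f, Gen.a, Gen.b, Gen.c, Gen.f],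
  [Gen.b, Gen.c, Gen.d, Gen.c, Gen.d, Gen.b, Gen.c, Gen.d, Gen.c, Gen.d, Gen.b, Gen.c, Gen.d, Gen.c, Gen.d, Gen.b, Gen.c, Gen.d, Gen.c, Gen.d, Gen.b, Gen.c, Gen.d, Gen.c, Gen.d, Gen.e, Gen.b, Gen.c, Gen.d, Gen.c, Gen.d, Gen.b, Gen.c, Gen.d, Gen.c, Gen.d, Gen.b, Gen.c, Gen.d, Gen.c, Gen.d, Gen.b, Gen.c, Gen.d, Gen.c, Gen.d, Gen.b, Gen.c, Gen.d, Gen.c, Gen.d, Gen.e, Gen.b, Gen.c, Gen.d, Gen.c, Gen.d, Gen.b, Gen.c, Gen.d, Gen.c, Gen.d, Gen.b, Gen.c, Gen.d, Gen.c, Gen.d, Gen.b, Gen.c, Gen.d, Gen.c, Gen.d, Gen.b, Gen.c, Gen.d, Gen.c, Gen.d, Gen.e]]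

/-- the subgroup generator words -/
def subWords : List (List Gen) := [
  [Gen.a],
  [Gen.b],
  [Gen.c],
  [Gen.d],
  [Gen.e]]

/-- expressions of the further relators -/
def extraE : List (WE Gen) := [
  (WE.mul (WE.of Gen.a) (WE.inv (WE.pow (WE.mul (WE.of Gen.c) (WE.of Gen.d)) 4))),
  (WE.pow (WE.mul (WE.mul (WE.mul (WE.of Gen.a) (WE.of Gen.b)) (WE.of Gen.c)) (WE.of Gen.f)) 5),
  (WE.pow (WE.mul (WE.pow (WE.mul (WE.mul (WE.mul (WE.mul (WE.of Gen.b) (WE.of Gen.c)) (WE.of Gen.d)) (WE.of Gen.c)) (WE.of Gen.d)) 5) (WE.of Gen.e)) 3)]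

/-- expressions of the subgroup generators -/
def subE : List (WE Gen) := [
  (WE.of Gen.a),
  (WE.of Gen.b),
  (WE.of Gen.c),
  (WE.of Gen.d),
  (WE.of Gen.e)]

/-- the certificate -/
def C : Cert Gen where
  par := fun k => Nat.land (treeE k) 1023
  gn := fun k => genOf (Nat.land (Nat.shiftRight (treeE k) 10) 15)
  ent := fun x u => Nat.land (entH x u) 1023
  rkE := fun x u => Nat.shiftRight (entH x u) 10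
  jEk := fun x u => Nat.land (jEc x u) 3
  jEa := fun x u => Nat.land (Nat.shiftRight (jEc x u) 2) 1023
  jEp := fun x u => Nat.land (Nat.shiftRight (jEc x u) 12) 255
  jEz := fun x u => Nat.shiftRight (jEc x u) 20
  al := fun k => Nat.land (alH k) 1023
  rkA := fun k => Nat.shiftRight (alH k) 10
  jAx := fun k => genOf (Nat.land (jAc k) 15)
  jA1k := fun k => Nat.land (Nat.shiftRight (jAc k) 4) 3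
  jA1a := fun k => Nat.land (Nat.shiftRight (jAc k) 6) 1023
  jA1p := fun k => Nat.land (Nat.shiftRight (jAc k) 16) 255
  jA1z := fun k => Nat.land (Nat.shiftRight (jAc k) 24) 1023
  jA2k := fun k => Nat.land (Nat.shiftRight (jAc k) 34) 3
  jA2a := fun k => Nat.land (Nat.shiftRight (jAc k) 36) 1023
  jA2p := fun k => Nat.land (Nat.shiftRight (jAc k) 46) 255
  jA2z := fun k => Nat.land (Nat.shiftRight (jAc k) 54) 1023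
  cycW := fun ci => (nthD cycs ci ([], [], 0)).1
  cycR := fun ci => (nthD cycs ci ([], [], 0)).2.1
  cycL := fun ci => (nthD cycs ci ([], [], 0)).2.2
  cycA := fun ci => Nat.ble 39 ci
  fuel := 5

def NN : ℕ := 885
def nn : ℕ := 416
def RR : ℕ := 3881


end

end Cfsg.Agent.Lib.Helper28.SuzOrd.C416
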