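import Cfsg.Agent.Lib.Helper28.SuzOrd.C416.Defs
import Cfsg.Agent.Lib.Helper28.TCOrbit

set_option autoImplicit false
set_option linter.unusedVariables false
set_option Elab.async false

namespace Cfsg.Agent.Lib.Helper28.SuzOrd.C416

open Cfsg.Agent.Lib.Helper28.SuzSub.P6 (Gen)
open Cfsg.Agent.Lib.Helper28.TC

noncomputable section

def orbT_c0 : ℕ := 0x79c8af3305e5a09cb4178b7af12f4e25ebc2bd9847ab08f5605eabe3d57a7aaf2f55d9eab9bd765732c8e5de1ebb0b9361732c0e5581ccafa295b732b4e5569cbac3935754eaa89d4dcbb4a274a45284e5509cba0b974072e7ae5d65ca98b953c72e60e4cc1cb96a272b72256e5ce9ca953912a72a50e448dccbfa67835c23ee6474f38db593444e6a8a45da98bb59317322ad5455ab89b57123d2227a435ac85b550b6ae14d5429a8853557f4d20e7a414f382359036a206d4c05109aa28ff6a5fed63f5aa7e350fc6a1f679becf47d1e90f6aa46e63ddaa7bb532572decd4bd9aa79350f26aa26d53c1ab8a356ef6a5ded449dc877354f36a5d0d4b9cf3739e8e66b1d4e5b95a872b50e26adc279380f36fb52df6a5bad5371a86e352db6a5ead5365ab6c352d86ada8d652513abaa2d26b19e6933cd466228ca631d87957d1464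314c8631d2d5b1d8a63b10c76218c69b18d4629a6ca63184c53098a91396c162582c5525125fb16be3517a692f4d45db12bb6319a883b4f45cb14b962dda79ae1895c312b734d6e6a2d98c61b96b56216ac42d18b6bb96d162564c5cf9cb58310b06255ec4ab8d3571a8ad62df8d5ab18856314ab34d54c4aa98b549a4a83454ec6298d3529a4a4629a0c428d8950b14a0625acd5a7d884fb10d46a13cc5a75894eb17094c138c5269684d2d6992d13059c74f2889e8955a92ab63f9134a2d2945a52659a4cb4492d70d6ad22b42456a7f2228f5a51c59a38b446ad48d5ae0289a3168462d48b2cd14b4a296944ad6de6a110b5a1d6943ad4865a90a59a1169422d6832c904b6204b3401647f5a9025a1f8b33ead27c5a17ec41ed6b3d2d27a5a4f2b51e1693bad6c04c4eaa49d0933a1287352d98899c948392947124ce0a49c14a5d2606f528dc499b54936a966c248d6a51a94934a946852ccea59989232a986424cc6a498894311266152cc44a1814a2fa925e528baa51714b2da945a5292c981652a2c0e6574a4ae95958722aa52544aca6391492c288e6504ac9e951392b26a584c4b096399292b258e8494a0963a1212924256474a88a959112b21a58424ac82948fd0b1f0a43d43078298ed0a1d2183914c70858f0541ba183542c68860cd0a19a123c15064858c90819218304305e858b90c16a182b42456860a50c14214273b04c19894e813068243ac467589834111d0223b04284890ec0f9d61f3a43e76078ea0f1d61d3b0367486cec0d1d41a3b03275064eb0c1d617320000a058c80b19814324286584cec091941232c2264844cc081941032c1e65838c9071980c2a4185602caa059500f32c1454028ab04952092a8105601c8a03916062240c450148802916041a8063480c6a01090021240214000080000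
def orbT : ℕ := orbT_c0
def orbE (i : ℕ) : ℕ := look orbT 19 524287 i
/-- orbit certificate of the orbit number `j` with root `r` -/
def OC (j r : ℕ) : OrbCert where
  inO := fun i => Nat.beq (Nat.land (orbE i) 3) j
  dep := fun i => Nat.land (Nat.shiftRight (orbE i) 2) 31
  opar := fun i => Nat.land (Nat.shiftRight (orbE i) 7) 511
  ogen := fun i => Nat.shiftRight (orbE i) 16
  root := r

def orbP1 (i : ℕ) : Bool := orbRowOK tf nn subWords (OC 1 1) i
theorem orbP1_blk0 : allRange (guard nn orbP1) 8 (0 * 2 ^ 8) = true := by decide +kernel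
theorem orbP1_blk1 : allRange (guard nn orbP1) 8 (1 * 2 ^ 8) = true := by decide +kernel
theorem orbP1_all : ∀ i, i < nn → orbP1 i = true := by
  refine all_of_blocks nn orbP1 8 2 (by decide) ?_
  intro k hk
  interval_cases k
  · exact orbP1_blk0
  · exact orbP1_blk1
theorem orb1_count : countRange (fun i => band (nlt i nn) ((OC 1 1).inO i)) 9 0 = 315 := by decide +kernel
theorem orb1_root : (OC 1 1).inO 1 = true := by decide +kernel
theorem nn_le_pow : nn ≤ 2 ^ 9 := by decide

def orbP2 (i : ℕ) : Bool := orbRowOK tf nn subWords (OC 2 38) i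
theorem orbP2_blk0 : allRange (guard nn orbP2) 8 (0 * 2 ^ 8) = true := by decide +kernel
theorem orbP2_blk1 : allRange (guard nn orbP2) 8 (1 * 2 ^ 8) = true := by decide +kernel
theorem orbP2_all : ∀ i, i < nn → orbP2 i = true := by
  refine all_of_blocks nn orbP2 8 2 (by decide) ?_
  intro k hk
  interval_cases k
  · exact orbP2_blk0
  · exact orbP2_blk1
theorem orb2_count : countRange (fun i => band (nlt i nn) ((OC 2 38).inO i)) 9 0 = 100 := by decide +kernel
theorem orb2_root : (OC 2 38).inO 38 = true := by decide +kernel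


end

end Cfsg.Agent.Lib.Helper28.SuzOrd.C416
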